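import Groth.Prelude.Def_CGrpSh3
import Groth.Agent.S15383
import Groth.Agent.H23Ga.DualPts
import Mathlib.RingTheory.TensorProduct.IsBaseChangeFree

/-!
# The norm of a finite locally free morphism on the multiplicative group
-/

set_option autoImplicit false
set_option backward.isDefEq.respectTransparency false
set_option linter.style.haveILetI false
set_option linter.unusedSectionVars false

universe u

open CategoryTheory CategoryTheory.Limits AlgebraicGeometry Opposite TopologicalSpace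

namespace Groth.Agent.H23Norm

section Rings

variable {A B A' B' : CommRingCat.{u}} {g : A ⟶ B} {v : A ⟶ A'} {g' : A' ⟶ B'} {v' : B ⟶ B'}

/-- The norm along a ring map. -/
noncomputable def nm (g : A ⟶ B) : B →* A :=
  @Algebra.norm A B _ _ g.hom.toAlgebra

/-- The ring map is finite free. -/
def FinFree (g : A ⟶ B) : Prop :=
  letI := g.hom.toAlgebra
  Module.Finite A B ∧ Module.Free A B

theorem nm_base_change (h : IsPushout g v v' g') (hg : FinFree g) :
    FinFree g' ∧ ∀ b, nm g' (v' b) = v (nm g b) := by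
  classical
  letI := g.hom.toAlgebra
  letI := v.hom.toAlgebra
  letI := g'.hom.toAlgebra
  letI := v'.hom.toAlgebra
  letI : Algebra A B' := (g ≫ v').hom.toAlgebra
  haveI : IsScalarTower A B B' := .of_algebraMap_eq fun _ => rfl
  haveI : IsScalarTower A A' B' := .of_algebraMap_eq fun a => ConcreteCategory.congr_hom h.w a
  obtain ⟨_, _⟩ := hg
  have hp : Algebra.IsPushout A A' B B' := CommRingCat.isPushout_iff_isPushout.1 h.flip
  have hbc : IsBaseChange A' (IsScalarTower.toAlgHom A B B').toLinearMap := hp.out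
  let b := Module.Free.chooseBasis A B
  let b' := hbc.basis b
  refine ⟨⟨Module.Finite.of_basis b', Module.Free.of_basis b'⟩, fun x => ?_⟩
  change Algebra.norm A' (v' x) = algebraMap A A' (Algebra.norm A x)
  rw [Algebra.norm_eq_matrix_det b', Algebra.norm_eq_matrix_det b, RingHom.map_det]
  congr 1
  ext i j
  rw [RingHom.mapMatrix_apply, Matrix.map_apply, Algebra.leftMulMatrix_eq_repr_mul,
    Algebra.leftMulMatrix_eq_repr_mul, hbc.basis_apply b j]
  refine Eq.trans ?_ (hbc.basis_repr_comp_apply b (x * b j) i)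
  exact congrArg (fun z => b'.repr z i) (map_mul (IsScalarTower.toAlgHom A B B') x (b j)).symm

end Rings

variable {X X' : Scheme.{u}} (f : X' ⟶ X) [IsFinite f]

/-- The pull back of an object. -/
noncomputable abbrev P (T : Over X) : Over X' := (Over.pullback f).obj T

/-- The projection. -/
noncomputable abbrev q (T : Over X) : (P f T).left ⟶ T.left := pullback.fst T.hom f

/-- An affine test object with free functions upstairs. -/
def Fr (W : Over X) : Prop := IsAffine W.left ∧ FinFree (q f W).appTop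

theorem base_change {W W' : Over X} (π : W' ⟶ W) [IsAffine W'.left] (hW : Fr f W) :
    Fr f W' ∧ ∀ a, nm (q f W').appTop (((Over.pullback f).map π).left.appTop a) =
      π.left.appTop (nm (q f W).appTop a) := by
  haveI := hW.1
  haveI : IsAffine (P f W).left := isAffine_of_isAffineHom (q f W)
  have h : IsPushout (q f W).appTop π.left.appTop ((Over.pullback f).map π).left.appTop (q f W').appTop :=
    isPushout_appTop_of_isPullback (H8Props.WeilRes.isPullback_pullback_map f π)
  obtain ⟨h1, h2⟩ := nm_base_change h hW.2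
  exact ⟨⟨inferInstance, h1⟩, h2⟩

/-- The test object of an open. -/
noncomputable abbrev opn (T : Over X) (V : T.left.Opens) : Over X := Over.mk (V.ι ≫ T.hom)

/-- Its map. -/
noncomputable abbrev opnHom (T : Over X) (V : T.left.Opens) : opn T V ⟶ T := Over.homMk V.ι rfl

variable [Flat f] [LocallyOfFinitePresentation f]

theorem exists_cover (T : Over X) :
    ∃ 𝒰 : Set T.left.Opens, (∀ V ∈ 𝒰, Fr f (opn T V)) ∧ ∀ y, ∃ V ∈ 𝒰, y ∈ V := by
  refine ⟨{V | V ∈ H8Props.WeilRes.FreeOpens (q f T)}, fun V hV => ⟨hV.1, ?_, ?_⟩, fun y => ?_⟩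
  · haveI : IsAffine (V : Scheme) := hV.1
    exact (pullback.fst (V.ι ≫ T.hom) f).finite_appTop
  · exact S15383.free_appTop f T V hV
  · obtain ⟨V, hV, hy, -⟩ := Opens.isBasis_iff_nbhd.mp
      (H8Props.WeilRes.isBasis_freeOpens (q f T)) (Opens.mem_top y)
    exact ⟨V, hV, hy⟩

/-- Being the norm of a function. -/
def IsNm (T : Over X) (a : Γ((P f T).left, ⊤)) (s : Γ(T.left, ⊤)) : Prop :=
  ∀ (W : Over X) (π : W ⟶ T), Fr f W →
    π.left.appTop s = nm (q f W).appTop (((Over.pullback f).map π).left.appTop a)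

theorem res_eq {T : Scheme.{u}} (V : T.Opens) {s t : Γ(T, ⊤)} (h : V.ι.appTop s = V.ι.appTop t) :
    T.presheaf.map (homOfLE (le_top : V ≤ ⊤)).op s = T.presheaf.map (homOfLE (le_top : V ≤ ⊤)).op t := by
  have e' := congrArg V.topIso.hom h
  simp only [Scheme.Opens.topIso_hom, Scheme.Opens.ι_appTop] at e'
  simpa [← ConcreteCategory.comp_apply, ← Functor.map_comp] using e'

theorem res_appLE {T : Scheme.{u}} {O U V V' : T.Opens} (hU : O ≤ U) (i : U ⟶ V) (i' : U ⟶ V')
    {hV : (⊤ : O.toScheme.Opens) ≤ O.ι ⁻¹ᵁ V} {hV' : (⊤ : O.toScheme.Opens) ≤ O.ι ⁻¹ᵁ V'}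
    {s : Γ(T, V)} {t : Γ(T, V')} (h : O.ι.appLE V ⊤ hV s = O.ι.appLE V' ⊤ hV' t) :
    T.presheaf.map (homOfLE hU).op (T.presheaf.map i.op s) = T.presheaf.map (homOfLE hU).op (T.presheaf.map i'.op t) := by
  have e' := congrArg O.topIso.hom h
  simp only [Scheme.Opens.topIso_hom, Scheme.Opens.ι_appLE] at e'
  simp [← ConcreteCategory.comp_apply, ← Functor.map_comp] at e' ⊢
  exact e'

theorem isNm_unique {T : Over X} {a : Γ((P f T).left, ⊤)} {s s' : Γ(T.left, ⊤)} (h : IsNm f T a s)
    (h' : IsNm f T a s') : s = s' := by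
  obtain ⟨𝒰, hfr, hcov⟩ := exists_cover f T
  refine T.left.sheaf.eq_of_locally_eq' (fun V : 𝒰 => V.1) ⊤ (fun V => homOfLE le_top) ?_ s s' fun V => ?_
  · exact fun y _ => Opens.mem_iSup.2 (by obtain ⟨V, hV, hy⟩ := hcov y; exact ⟨⟨V, hV⟩, hy⟩)
  · exact res_eq V.1 ((h _ (opnHom T V.1) (hfr _ V.2)).trans (h' _ (opnHom T V.1) (hfr _ V.2)).symm)

theorem exists_isNm (T : Over X) (a : Γ((P f T).left, ⊤)) : ∃ s, IsNm f T a s := by
  obtain ⟨𝒰, hfr, hcov⟩ := exists_cover f T
  let sec : ∀ V : 𝒰, Γ(T.left, V.1) := fun V =>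
    V.1.topIso.hom (nm (q f (opn T V.1)).appTop (((Over.pullback f).map (opnHom T V.1)).left.appTop a))
  have key : ∀ (W : Over X) (π : W ⟶ T) [IsAffine W.left] (V : 𝒰) (hle : (⊤ : W.left.Opens) ≤ π.left ⁻¹ᵁ V.1),
      π.left.appLE V.1 ⊤ hle (sec V) = nm (q f W).appTop (((Over.pullback f).map π).left.appTop a) := by
    intro W π _ V hle
    have hr : Set.range π.left ⊆ Set.range V.1.ι := by
      rw [Scheme.Opens.range_ι]
      rintro _ ⟨x, rfl⟩
      exact hle (show x ∈ (⊤ : W.left.Opens) from trivial)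
    let ρ : W ⟶ opn T V.1 := Over.homMk (IsOpenImmersion.lift V.1.ι π.left hr)
      (by
        change _ ≫ V.1.ι ≫ T.hom = _
        rw [IsOpenImmersion.lift_fac_assoc, Over.w])
    have hρ : ρ ≫ opnHom T V.1 = π := Over.OverMorphism.ext (IsOpenImmersion.lift_fac _ _ _)
    conv_rhs => rw [← hρ, Functor.map_comp, Over.comp_left, Scheme.Hom.comp_appTop, ConcreteCategory.comp_apply,
      (base_change f ρ (hfr _ V.2)).2]
    have e : V.1.ι ⁻¹ᵁ V.1 = ⊤ := V.1.ι_preimage_self
    have h1 : π.left.appLE V.1 ⊤ hle = V.1.ι.appLE V.1 ⊤ e.ge ≫ ρ.left.appTop := by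
      rw [Scheme.Hom.appTop, Scheme.Hom.app_eq_appLE, Scheme.Hom.appLE_comp_appLE]
      congr 1
      · exact (congrArg CommaMorphism.left hρ).symm
    rw [h1, ConcreteCategory.comp_apply]
    congr 1
    simp only [sec, Scheme.Opens.topIso_hom, Scheme.Opens.ι_appLE]
    simp [← ConcreteCategory.comp_apply, ← Functor.map_comp]
    exact ConcreteCategory.congr_hom (T.left.presheaf.map_id _) _
  obtain ⟨s, hs, -⟩ := T.left.sheaf.existsUnique_gluing' (fun V : 𝒰 => V.1) ⊤ (fun V => homOfLE le_top)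
    (fun y _ => Opens.mem_iSup.2 (by obtain ⟨V, hV, hy⟩ := hcov y; exact ⟨⟨V, hV⟩, hy⟩)) sec (by
    intro V V'
    let U : T.left.Opens := V.1 ⊓ V'.1
    let ι' := {O : T.left.affineOpens // O.1 ≤ U}
    refine T.left.sheaf.eq_of_locally_eq' (fun O : ι' => O.1.1) _ (fun O => homOfLE O.2) ?_ _ _ fun O => ?_
    · intro y hy
      obtain ⟨O, hO, hyO, hle⟩ := exists_isAffineOpen_mem_and_subset (U := U) hy
      exact Opens.mem_iSup.2 ⟨⟨⟨O, hO⟩, hle⟩, hyO⟩
    · haveI : IsAffine (opn T O.1.1).left := O.1.2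
      have hO : ∀ Z : T.left.Opens, O.1.1 ≤ Z → (⊤ : (opn T O.1.1).left.Opens) ≤ O.1.1.ι ⁻¹ᵁ Z :=
        fun Z hZ x _ => hZ x.2
      have k1 := (key (opn T O.1.1) (opnHom T O.1.1) V (hO _ (O.2.trans inf_le_left))).trans
        (key (opn T O.1.1) (opnHom T O.1.1) V' (hO _ (O.2.trans inf_le_right))).symm
      exact res_appLE O.2 _ _ k1)
  refine ⟨s, fun W π hW => ?_⟩
  haveI := hW.1
  let ι' := {O : W.left.affineOpens // ∃ V : 𝒰, O.1 ≤ π.left ⁻¹ᵁ V.1}
  refine W.left.sheaf.eq_of_locally_eq' (fun O : ι' => O.1.1) ⊤ (fun O => homOfLE le_top) ?_ _ _ fun O => ?_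
  · intro y _
    obtain ⟨V, hV, hy⟩ := hcov (π.left y)
    obtain ⟨O, hO, hyO, hle⟩ := exists_isAffineOpen_mem_and_subset (U := π.left ⁻¹ᵁ V) (x := y) hy
    exact Opens.mem_iSup.2 ⟨⟨⟨O, hO⟩, ⟨V, hV⟩, hle⟩, hyO⟩
  · obtain ⟨V, hV⟩ := O.2
    haveI : IsAffine (opn W O.1.1).left := O.1.2
    let σ : opn W O.1.1 ⟶ W := opnHom W O.1.1
    have hle : (⊤ : (opn W O.1.1).left.Opens) ≤ (σ ≫ π).left ⁻¹ᵁ V.1 := fun x _ => hV x.2
    have k1 := key (opn W O.1.1) (σ ≫ π) V hle
    conv_rhs at k1 => rw [Functor.map_comp, Over.comp_left, Scheme.Hom.comp_appTop, ConcreteCategory.comp_apply,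
      (base_change f σ hW).2]
    rw [← hs V] at k1
    have k2 : σ.left.appTop (π.left.appTop s) =
        σ.left.appTop (nm (q f W).appTop (((Over.pullback f).map π).left.appTop a)) := by
      rw [← k1]
      have e2 : T.left.presheaf.map (homOfLE (le_top : V.1 ≤ ⊤)).op ≫ (σ.left ≫ π.left).appLE V.1 ⊤ hle =
          π.left.appTop ≫ σ.left.appTop := by
        rw [Scheme.Hom.map_appLE, ← Scheme.Hom.comp_appTop, Scheme.Hom.appTop, Scheme.Hom.app_eq_appLE]
        rfl
      exact (ConcreteCategory.congr_hom e2 s).symm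
    exact res_eq O.1.1 k2

/-- The norm on a test object. -/
noncomputable def norm (T : Over X) : Γ((P f T).left, ⊤) →* Γ(T.left, ⊤) where
  toFun a := (exists_isNm f T a).choose
  map_one' := isNm_unique f (exists_isNm f T 1).choose_spec fun W π _ => by simp only [map_one]
  map_mul' a b := isNm_unique f (exists_isNm f T (a * b)).choose_spec fun W π hW => by
    rw [map_mul, map_mul, map_mul, (exists_isNm f T a).choose_spec W π hW, (exists_isNm f T b).choose_spec W π hW]

theorem isNm_norm (T : Over X) (a : Γ((P f T).left, ⊤)) : IsNm f T a (norm f T a) :=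
  (exists_isNm f T a).choose_spec

theorem norm_map {T T' : Over X} (h : T' ⟶ T) (a : Γ((P f T).left, ⊤)) :
    norm f T' (((Over.pullback f).map h).left.appTop a) = h.left.appTop (norm f T a) := by
  refine isNm_unique f (isNm_norm f T' _) fun W π hW => ?_
  have e := isNm_norm f T a W (π ≫ h) hW
  rwa [Functor.map_comp, Over.comp_left, Over.comp_left, Scheme.Hom.comp_appTop, Scheme.Hom.comp_appTop,
    ConcreteCategory.comp_apply, ConcreteCategory.comp_apply] at e

theorem norm_of_fr {T : Over X} (hT : Fr f T) (a : Γ((P f T).left, ⊤)) : norm f T a = nm (q f T).appTop a := by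
  have e := isNm_norm f T a T (𝟙 T) hT
  simpa using e

section Sheaf

variable (K : Precoverage Scheme.{u}) [(QuotSh.J K X).Subcanonical] [(QuotSh.J K X').Subcanonical]

/-- The section map. -/
noncomputable def normHom (T : Over X) :
    (CGrpSh2.Gm K X').obj.obj (op (P f T)) →+ (CGrpSh2.Gm K X).obj.obj (op T) :=
  AddMonoidHom.mk' (fun x => H23Ga.DualPts.gmSec K (norm f T (H23Ga.DualPts.gmVal x))
      ((H23Ga.DualPts.isUnit_gmVal x).map (norm f T))) fun x y => H23Ga.DualPts.gmVal_inj (by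
    simp only [H23Ga.DualPts.gmVal_add, H23Ga.DualPts.gmVal_gmSec, map_mul])

theorem gmVal_normHom (T : Over X) (x : (CGrpSh2.Gm K X').obj.obj (op (P f T))) :
    H23Ga.DualPts.gmVal (normHom f K T x) = norm f T (H23Ga.DualPts.gmVal x) := by
  rw [normHom, AddMonoidHom.mk'_apply, H23Ga.DualPts.gmVal_gmSec]

/-- The norm map. -/
noncomputable def normMap : CGrpSh3.pushGm K f ⟶ CGrpSh2.Gm K X :=
  ⟨{ app := fun T => ConcreteCategory.ofHom (C := AddCommGrpCat.{u + 1}) (X := (CGrpSh3.pushGm K f).obj.obj T) (Y := (CGrpSh2.Gm K X).obj.obj T) (normHom f K T.unop)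
     naturality := fun T T' h => AddCommGrpCat.ext fun x => H23Ga.DualPts.gmVal_inj (by
       change H23Ga.DualPts.gmVal (normHom f K T'.unop
           ((CGrpSh2.Gm K X').obj.map ((Over.pullback f).map h.unop).op x)) =
         H23Ga.DualPts.gmVal ((CGrpSh2.Gm K X).obj.map h.unop.op (normHom f K T.unop x))
       rw [H23Ga.DualPts.gmVal_map, gmVal_normHom, gmVal_normHom, H23Ga.DualPts.gmVal_map, norm_map]) }⟩

theorem isNormMap_normMap : CGrpSh3.IsNormMap K f (normMap f K) := by
  intro T _ alg _ _ halg t'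
  change H23Ga.DualPts.gmVal (normHom f K T (ULift.up (Additive.ofMul t'))) = _
  rw [gmVal_normHom]
  have he : alg = (q f T).appTop.hom.toAlgebra := Algebra.algebra_ext _ _ halg
  subst he
  exact norm_of_fr f ⟨inferInstance, ⟨inferInstance, inferInstance⟩⟩ _

end Sheaf

end Groth.Agent.H23Norm
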